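import Mathlib
import Groth.Agent.Lib.Helper84.ExtLine

/-!
# Stabilizer of a direct summand = stabilizer of a line in the exterior algebra, over a ring (helper84)

`k` a commutative ring, `V` a finite free `k`-module which is an `A`-comodule, `w₀,…,w_{d-1} ∈ V`
with linear forms `μᵢ` such that `μᵢ(wⱼ) = δᵢⱼ` (so `W = span(wᵢ)` is a free direct summand).  An
`R`-point of `A` stabilizes `W` iff it stabilizes the line spanned by `ω = w₀ ∧ … ∧ w_{d-1}` in the
exterior algebra.
-/

set_option autoImplicit false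
set_option linter.style.haveILetI false
set_option linter.unusedSectionVars false
open TensorProduct HopfRep
universe u v w x

namespace Groth.Agent.Lib.Helper84.ChevDVR

open Groth.Agent.Lib.Helper84.ExtComod

section LinAlg

variable {k : Type u} [CommRing k] {V : Type w} [AddCommGroup V] [Module k V]

/-- `ω = w₀ ∧ … ∧ w_{d-1}`. -/
noncomputable abbrev omega {d : ℕ} (wv : Fin d → V) : ExteriorAlgebra k V :=
  ExteriorAlgebra.ιMulti k d wv

/-- contraction with a form vanishing on the `vᵢ` kills `v₀ ∧ … ∧ v_{n-1}`. -/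
theorem contractLeft_ιMulti_eq_zero (lam : Module.Dual k V) {n : ℕ} (v : Fin n → V)
    (h : ∀ i, lam (v i) = 0) :
    CliffordAlgebra.contractLeft (Q := (0 : QuadraticForm k V)) lam
      (ExteriorAlgebra.ιMulti k n v) = 0 := by
  induction n with
  | zero =>
    rw [ExteriorAlgebra.ιMulti_zero_apply]
    exact CliffordAlgebra.contractLeft_one (Q := (0 : QuadraticForm k V)) lam
  | succ n ih =>
    rw [ExteriorAlgebra.ιMulti_succ_apply, CliffordAlgebra.contractLeft_ι_mul, h 0, zero_smul,
      ih (Matrix.vecTail v) (fun i => h i.succ), mul_zero, sub_zero]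

theorem contractLeft_ι_mul_ιMulti (lam : Module.Dual k V) {n : ℕ} (v : Fin n → V)
    (h : ∀ i, lam (v i) = 0) (x : V) :
    CliffordAlgebra.contractLeft (Q := (0 : QuadraticForm k V)) lam
      (ExteriorAlgebra.ι k x * ExteriorAlgebra.ιMulti k n v) =
      lam x • ExteriorAlgebra.ιMulti k n v := by
  rw [CliffordAlgebra.contractLeft_ι_mul, contractLeft_ιMulti_eq_zero lam v h, mul_zero, sub_zero]

/-- a linear form on the exterior algebra taking the value `1` at `v₀ ∧ … ∧ v_{n-1}`, when the
`vᵢ` have a dual family. -/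
theorem exists_form_ιMulti {n : ℕ} (v : Fin n → V) (μ : Fin n → Module.Dual k V)
    (hμ : ∀ i j, μ i (v j) = if i = j then 1 else 0) :
    ∃ φ : ExteriorAlgebra k V →ₗ[k] k, φ (ExteriorAlgebra.ιMulti k n v) = 1 := by
  induction n with
  | zero =>
    refine ⟨(ExteriorAlgebra.algebraMapInv (R := k) (M := V)).toLinearMap, ?_⟩
    rw [ExteriorAlgebra.ιMulti_zero_apply]
    simp
  | succ n ih =>
    obtain ⟨φ, hφ⟩ := ih (Matrix.vecTail v) (Matrix.vecTail μ) (fun i j => by
      have := hμ i.succ j.succ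
      simpa [Matrix.vecTail, Fin.succ_inj] using this)
    refine ⟨φ ∘ₗ CliffordAlgebra.contractLeft (Q := (0 : QuadraticForm k V)) (μ 0), ?_⟩
    rw [LinearMap.comp_apply, ExteriorAlgebra.ιMulti_succ_apply,
      contractLeft_ι_mul_ιMulti (μ 0) (Matrix.vecTail v) (fun i => by
        have := hμ 0 i.succ
        simpa [Matrix.vecTail, (Fin.succ_ne_zero i).symm] using this)]
    have h00 : μ 0 (v 0) = 1 := by simpa using hμ 0 0
    rw [h00, one_smul, hφ]

variable {d : ℕ} (wv : Fin d → V) (μ : Fin d → Module.Dual k V)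
  (hμ : ∀ i j, μ i (wv j) = if i = j then 1 else 0)

/-- the projection onto `W = span(wᵢ)`, with values in `W`. -/
noncomputable def projW : V →ₗ[k] Submodule.span k (Set.range wv) :=
  ∑ i, (μ i).smulRight (⟨wv i, Submodule.subset_span ⟨i, rfl⟩⟩ : Submodule.span k (Set.range wv))

theorem projW_apply (x : V) :
    ((projW wv μ x : Submodule.span k (Set.range wv)) : V) = ∑ i, μ i x • wv i := by
  unfold projW
  rw [LinearMap.sum_apply, Submodule.coe_sum]
  rfl

include hμ in
theorem projW_wv (j : Fin d) : ((projW wv μ (wv j) : Submodule.span k (Set.range wv)) : V) = wv j := by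
  classical
  rw [projW_apply, Finset.sum_eq_single j]
  · rw [hμ j j, if_pos rfl, one_smul]
  · intro i _ hij
    rw [hμ i j, if_neg hij, zero_smul]
  · intro h
    exact absurd (Finset.mem_univ j) h

section BaseChange

variable (R : Type x) [CommRing R] [Algebra k R]
variable {ι : Type*} [Fintype ι] (e : Module.Basis ι k V)

include hμ e in
theorem mem_range_of_iotaR_mul (y : V ⊗[k] R)
    (hy : iotaR R y * (omega wv ⊗ₜ[k] (1 : R)) = 0) :
    y ∈ LinearMap.range ((Submodule.span k (Set.range wv)).subtype.rTensor R) := by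
  classical
  set W := Submodule.span k (Set.range wv) with hW
  obtain ⟨φ, hφ⟩ := exists_form_ιMulti wv μ hμ
  let P : V →ₗ[k] V := W.subtype ∘ₗ projW wv μ
  have hPw : ∀ j, P (wv j) = wv j := fun j => projW_wv wv μ hμ j
  let lam : ι → Module.Dual k V := fun j => e.coord j ∘ₗ (LinearMap.id - P)
  have hlam : ∀ j i, lam j (wv i) = 0 := by
    intro j i
    simp only [lam, LinearMap.comp_apply, LinearMap.sub_apply, LinearMap.id_apply, hPw, sub_self,
      map_zero]
  let m : V →ₗ[k] ExteriorAlgebra k V :=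
    (LinearMap.mulRight k (omega wv)) ∘ₗ (ExteriorAlgebra.ι k)
  let p : ExteriorAlgebra k V →ₗ[k] V :=
    ∑ j, (φ ∘ₗ CliffordAlgebra.contractLeft (Q := (0 : QuadraticForm k V)) (lam j)).smulRight (e j)
  have hpm : p ∘ₗ m = LinearMap.id - P := by
    apply LinearMap.ext
    intro x
    simp only [p, m, LinearMap.comp_apply, LinearMap.sum_apply, LinearMap.smulRight_apply,
      LinearMap.mulRight_apply]
    have h1 : ∀ j, φ (CliffordAlgebra.contractLeft (Q := (0 : QuadraticForm k V)) (lam j)
        (ExteriorAlgebra.ι k x * omega wv)) = e.coord j ((LinearMap.id - P : V →ₗ[k] V) x) := by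
      intro j
      rw [contractLeft_ι_mul_ιMulti (lam j) wv (hlam j) x, map_smul, hφ, smul_eq_mul, mul_one]
      rfl
    simp only [h1]
    exact e.sum_repr _
  have hm : ∀ z : V ⊗[k] R, m.rTensor R z = iotaR R z * (omega wv ⊗ₜ[k] (1 : R)) := by
    intro z
    induction z using TensorProduct.induction_on with
    | zero => simp
    | tmul v r =>
      rw [LinearMap.rTensor_tmul, iotaR_tmul, Algebra.TensorProduct.tmul_mul_tmul, mul_one]
      rfl
    | add p q hp hq => rw [map_add, map_add, add_mul, hp, hq]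
  have h0 : m.rTensor R y = 0 := (hm y).trans hy
  have h1 : (p ∘ₗ m).rTensor R y = 0 := by
    rw [LinearMap.rTensor_comp, LinearMap.comp_apply, h0, map_zero]
  rw [hpm, LinearMap.rTensor_sub, LinearMap.sub_apply, LinearMap.rTensor_id, LinearMap.id_apply,
    sub_eq_zero] at h1
  refine ⟨(projW wv μ).rTensor R y, ?_⟩
  rw [← LinearMap.comp_apply, ← LinearMap.rTensor_comp]
  exact h1.symm

theorem exists_smul_omega (φ : Fin d → Fin d) :
    ∃ c : k, ExteriorAlgebra.ιMulti k d (wv ∘ φ) = c • omega wv := by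
  by_cases hφ : Function.Injective φ
  · have hbij : Function.Bijective φ := Finite.injective_iff_bijective.1 hφ
    let σ : Equiv.Perm (Fin d) := Equiv.ofBijective φ hbij
    refine ⟨((Equiv.Perm.sign σ : ℤ) : k), ?_⟩
    have h := AlternatingMap.map_perm (ExteriorAlgebra.ιMulti k d (M := V)) wv σ
    have h2 : (wv ∘ φ) = wv ∘ σ := rfl
    rw [h2, h]
    rw [Units.smul_def, ← Int.cast_smul_eq_zsmul k]
  · refine ⟨0, ?_⟩
    rw [zero_smul]
    apply AlternatingMap.map_eq_zero_of_not_injective
    intro hinj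
    apply hφ
    intro i j hij
    apply hinj
    simp [hij]

theorem exists_prod_eq (y : Fin d → V ⊗[k] R)
    (hy : ∀ i, y i ∈ LinearMap.range ((Submodule.span k (Set.range wv)).subtype.rTensor R)) :
    ∃ c : R, (List.ofFn fun i => iotaR R (y i)).prod = omega wv ⊗ₜ[k] c := by
  classical
  set W := Submodule.span k (Set.range wv) with hW
  -- elements of the range are combinations of the `wᵢ`
  have hcomb : ∀ z : W ⊗[k] R, ∃ r : Fin d → R,
      W.subtype.rTensor R z = ∑ j, wv j ⊗ₜ[k] r j := by
    intro z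
    induction z using TensorProduct.induction_on with
    | zero => exact ⟨0, by simp⟩
    | tmul w r =>
      obtain ⟨a, ha⟩ := (Submodule.mem_span_range_iff_exists_fun k).1 w.2
      refine ⟨fun j => a j • r, ?_⟩
      rw [LinearMap.rTensor_tmul, Submodule.subtype_apply, ← ha, TensorProduct.sum_tmul]
      apply Finset.sum_congr rfl
      intro j _
      rw [TensorProduct.smul_tmul]
    | add p q hp hq =>
      obtain ⟨r₁, h₁⟩ := hp
      obtain ⟨r₂, h₂⟩ := hq
      refine ⟨r₁ + r₂, ?_⟩
      rw [map_add, h₁, h₂, ← Finset.sum_add_distrib]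
      apply Finset.sum_congr rfl
      intro j _
      rw [Pi.add_apply, TensorProduct.tmul_add]
  have hy' : ∀ i, ∃ r : Fin d → R, y i = ∑ j, wv j ⊗ₜ[k] r j := by
    intro i
    obtain ⟨z, hz⟩ := hy i
    obtain ⟨r, hr⟩ := hcomb z
    exact ⟨r, hz ▸ hr⟩
  choose r hr using hy'
  let f : MultilinearMap k (fun _ : Fin d => V ⊗[k] R) (ExteriorAlgebra k V ⊗[k] R) :=
    (MultilinearMap.mkPiAlgebraFin k d (ExteriorAlgebra k V ⊗[k] R)).compLinearMap
      (fun _ => iotaR R)
  have hf : ∀ z : Fin d → V ⊗[k] R, f z = (List.ofFn fun i => iotaR R (z i)).prod := fun z => rfl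
  rw [← hf]
  have hyr : y = fun i => ∑ j, wv j ⊗ₜ[k] r i j := funext hr
  rw [hyr, MultilinearMap.map_sum]
  choose cφ hcφ using exists_smul_omega (k := k) wv
  refine ⟨∑ φ : Fin d → Fin d, cφ φ • (List.ofFn fun i => r i (φ i)).prod, ?_⟩
  rw [TensorProduct.tmul_sum]
  apply Finset.sum_congr rfl
  intro φ _
  rw [hf]
  simp only [iotaR_tmul]
  rw [ExtLine.list_prod_tmul]
  have h1 : (List.ofFn fun i => ExteriorAlgebra.ι k (wv (φ i))).prod =
      ExteriorAlgebra.ιMulti k d (wv ∘ φ) := by
    rw [ExteriorAlgebra.ιMulti_apply]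
    rfl
  rw [h1, hcφ, TensorProduct.smul_tmul]

end BaseChange

end LinAlg

section Line

open Groth.Agent.Lib.Helper84.RPoints Groth.Agent.Lib.Helper84.Stabilizer

variable {k : Type u} [CommRing k] {A : Type v} [CommRing A] [HopfAlgebra k A]
variable {V : Type w} [AddCommGroup V] [Module k V] [cV : Comod k A V]
variable {d : ℕ} (wv : Fin d → V) (μ : Fin d → Module.Dual k V)
  (hμ : ∀ i j, μ i (wv j) = if i = j then 1 else 0)
variable {ι : Type*} [Fintype ι] (e : Module.Basis ι k V)
variable {R : Type x} [CommRing R] [Algebra k R] (g : A →ₐ[k] R)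

include hμ e in
/-- **the stabilizer of a free direct summand is the stabilizer of a line in the exterior
algebra**, over any commutative base ring. -/
theorem stabP_iff_line :
    StabP (A := A) (Submodule.span k (Set.range wv)) R g ↔
      ∃ c : R, g.toLinearMap.lTensor (ExteriorAlgebra k V)
        ((extComod cV).coact (omega (k := k) wv)) = omega (k := k) wv ⊗ₜ[k] c := by
  set W := Submodule.span k (Set.range wv) with hW
  constructor
  · intro hst
    have hy : ∀ i, g.toLinearMap.lTensor V (cV.coact (wv i)) ∈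
        LinearMap.range (W.subtype.rTensor R) :=
      fun i => hst (wv i) (Submodule.subset_span ⟨i, rfl⟩)
    obtain ⟨c, hc⟩ := exists_prod_eq wv R (fun i => g.toLinearMap.lTensor V (cV.coact (wv i))) hy
    refine ⟨c, ?_⟩
    rw [← tauAlg_apply, tauAlg_ιMulti]
    exact hc
  · rintro ⟨c₀, hc₀⟩
    letI : Comod k A (ExteriorAlgebra k V) := extComod cV
    -- `c₀` is a unit
    have hunit : IsUnit c₀ := by
      have h1 : tau (A := A) g (omega (k := k) wv) = c₀ • ((1 : R) ⊗ₜ[k] omega (k := k) wv) := by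
        rw [tau_apply]
        have : g.toLinearMap.lTensor (ExteriorAlgebra k V)
            (Comod.coact (k := k) (A := A) (omega (k := k) wv)) = omega (k := k) wv ⊗ₜ[k] c₀ := hc₀
        rw [this, TensorProduct.comm_tmul, TensorProduct.smul_tmul', smul_eq_mul, mul_one]
      have h2 : actR (A := A) g ((1 : R) ⊗ₜ[k] omega (k := k) wv) =
          c₀ • ((1 : R) ⊗ₜ[k] omega (k := k) wv) := by
        rw [actR_one_tmul, h1]
      have h3 := LinearMap.congr_fun
        (actR_inv_comp (A := A) (V := ExteriorAlgebra k V) g) ((1 : R) ⊗ₜ[k] omega (k := k) wv)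
      rw [LinearMap.comp_apply, h2, map_smul, LinearMap.id_apply] at h3
      obtain ⟨φ, hφ⟩ := exists_form_ιMulti wv μ hμ
      let Φ : R ⊗[k] ExteriorAlgebra k V →ₗ[R] R :=
        (Algebra.TensorProduct.rid k R R).toLinearMap ∘ₗ φ.baseChange R
      have hΦ : Φ ((1 : R) ⊗ₜ[k] omega (k := k) wv) = 1 := by
        simp [Φ, hφ]
      have h4 := congrArg Φ h3
      rw [map_smul, hΦ, smul_eq_mul] at h4
      exact IsUnit.of_mul_eq_one _ h4
    obtain ⟨u, hu⟩ := hunit
    intro w hwW
    apply mem_range_of_iotaR_mul wv μ hμ R e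
    have h1 : ExteriorAlgebra.ι k w * omega (k := k) wv = 0 := ExtLine.ι_mul_omega_of_mem wv w hwW
    have h2 := congrArg (tauAlg cV g) h1
    rw [map_mul, map_zero, tauAlg_ι, tauAlg_apply] at h2
    have h3 : g.toLinearMap.lTensor (ExteriorAlgebra k V)
        ((extComod cV).coact (omega (k := k) wv)) = omega (k := k) wv ⊗ₜ[k] c₀ := hc₀
    rw [h3] at h2
    have h4 : omega (k := k) wv ⊗ₜ[k] c₀ =
        (omega (k := k) wv ⊗ₜ[k] (1 : R)) * ((1 : ExteriorAlgebra k V) ⊗ₜ[k] c₀) := by
      rw [Algebra.TensorProduct.tmul_mul_tmul, mul_one, one_mul]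
    rw [h4, ← mul_assoc] at h2
    have h5 := congrArg (· * ((1 : ExteriorAlgebra k V) ⊗ₜ[k] ((u⁻¹ : Rˣ) : R))) h2
    simp only [zero_mul] at h5
    rw [mul_assoc, Algebra.TensorProduct.tmul_mul_tmul, mul_one, ← hu, Units.mul_inv,
      ← Algebra.TensorProduct.one_def, mul_one] at h5
    exact h5

end Line

end Groth.Agent.Lib.Helper84.ChevDVR
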