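import Mathlib

/-!
# Linear algebra over a PID for Chevalley's theorem over a DVR (helper84)

* `exists_dual_family`: `M` finite torsion-free over a PID, `W ≤ M` with `M ⧸ W` embedded in a
  torsion-free module: `W` is spanned by a family `wᵢ` admitting a dual family of forms on `M`.
* `exists_basis_cons`: a vector `ω` with a form `φ`, `φ ω = 1`, in a finite torsion-free module
  is the `0`-th vector of a basis indexed by `Fin (m + 1)`.
-/

set_option autoImplicit false
universe u v w

namespace Groth.Agent.Lib.Helper84.ChevDVR

section

variable {O : Type u} [CommRing O] [IsDomain O] [IsPrincipalIdealRing O]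
variable {M : Type v} [AddCommGroup M] [Module O M] [Module.Finite O M] [Module.IsTorsionFree O M]

theorem exists_dual_family (W : Submodule O M) {B : Type w} [AddCommGroup B] [Module O B]
    [Module.IsTorsionFree O B] (j : M ⧸ W →ₗ[O] B) (hj : Function.Injective j) :
    ∃ (d : ℕ) (wv : Fin d → M) (μ : Fin d → Module.Dual O M),
      (∀ i l, μ i (wv l) = if i = l then 1 else 0) ∧ Submodule.span O (Set.range wv) = W := by
  classical
  have : Module.IsTorsionFree O (M ⧸ W) := hj.moduleIsTorsionFree j (fun r m => map_smul j r m)
  have : Module.Free O (M ⧸ W) := Module.free_of_finite_type_torsion_free'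
  obtain ⟨s, hs⟩ := Module.projective_lifting_property W.mkQ (LinearMap.id : M ⧸ W →ₗ[O] M ⧸ W)
    W.mkQ_surjective
  -- retraction onto `W`
  let r : M →ₗ[O] W := LinearMap.codRestrict W (LinearMap.id - s ∘ₗ W.mkQ) (fun x => by
    rw [← Submodule.Quotient.mk_eq_zero W]
    have h1 := LinearMap.congr_fun hs (W.mkQ x)
    simp only [LinearMap.comp_apply, LinearMap.id_apply, Submodule.mkQ_apply] at h1
    simp only [LinearMap.sub_apply, LinearMap.id_apply, LinearMap.comp_apply, Submodule.mkQ_apply,
      Submodule.Quotient.mk_sub, h1, sub_self])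
  have hr : ∀ w : W, r w = w := by
    intro w
    apply Subtype.ext
    have h0 : W.mkQ (w : M) = 0 := by
      rw [Submodule.mkQ_apply, Submodule.Quotient.mk_eq_zero]
      exact w.2
    simp only [r, LinearMap.codRestrict_apply, LinearMap.sub_apply, LinearMap.id_apply,
      LinearMap.comp_apply, h0, map_zero, sub_zero]
  have : IsNoetherian O M := isNoetherian_of_isNoetherianRing_of_finite O M
  have : Module.Finite O W := Module.IsNoetherian.finite O W
  obtain ⟨d, c⟩ : Σ n, Module.Basis (Fin n) O W := Module.basisOfFiniteTypeTorsionFree'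
  refine ⟨d, fun i => (c i : M), fun i => c.coord i ∘ₗ r, ?_, ?_⟩
  · intro i l
    rw [LinearMap.comp_apply, hr, Module.Basis.coord_apply, Module.Basis.repr_self,
      Finsupp.single_apply]
    simp only [eq_comm]
  · have h1 : Set.range (fun i => (c i : M)) = W.subtype '' Set.range c := by
      rw [← Set.range_comp]
      rfl
    rw [h1, ← Submodule.map_span, c.span_eq, Submodule.map_subtype_top]

theorem exists_basis_cons (ω : M) (φ : M →ₗ[O] O) (hφ : φ ω = 1) :
    ∃ (m : ℕ) (e : Module.Basis (Fin (m + 1)) O M), e 0 = ω := by
  classical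
  have : IsNoetherian O M := isNoetherian_of_isNoetherianRing_of_finite O M
  set K := LinearMap.ker φ with hK
  have : Module.Finite O K := Module.IsNoetherian.finite O K
  obtain ⟨m, c⟩ : Σ n, Module.Basis (Fin n) O K := Module.basisOfFiniteTypeTorsionFree'
  let v : Fin m → M := fun i => (c i : M)
  have hspan : Submodule.span O (Set.range v) = K := by
    have h1 : Set.range v = K.subtype '' Set.range c := by
      rw [← Set.range_comp]
      rfl
    rw [h1, ← Submodule.map_span, c.span_eq, Submodule.map_subtype_top]
  have hv : LinearIndependent O v :=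
    c.linearIndependent.map' K.subtype (Submodule.ker_subtype K)
  have hli : LinearIndependent O (Fin.cons ω v : Fin (m + 1) → M) := by
    apply LinearIndependent.finCons' ω v hv
    intro a y hy h
    rw [hspan] at hy
    have h1 := congrArg φ h
    rw [map_add, map_smul, hφ, LinearMap.mem_ker.1 hy, add_zero, map_zero, smul_eq_mul,
      mul_one] at h1
    exact h1
  have hsp : ⊤ ≤ Submodule.span O (Set.range (Fin.cons ω v : Fin (m + 1) → M)) := by
    intro z _
    have hz : z = φ z • ω + (z - φ z • ω) := by abel
    rw [hz]
    apply Submodule.add_mem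
    · apply Submodule.smul_mem
      apply Submodule.subset_span
      exact ⟨0, by simp⟩
    · have hk : z - φ z • ω ∈ K := by
        rw [hK, LinearMap.mem_ker, map_sub, map_smul, hφ, smul_eq_mul, mul_one, sub_self]
      rw [← hspan] at hk
      refine Submodule.span_mono ?_ hk
      rintro _ ⟨i, rfl⟩
      exact ⟨i.succ, by simp⟩
  refine ⟨m, Module.Basis.mk hli hsp, ?_⟩
  rw [Module.Basis.mk_apply]
  simp

end

end Groth.Agent.Lib.Helper84.ChevDVR
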