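import Mathlib
import Groth.Prelude.Def_SGA3
import Groth.Prelude.Def_ComodSub
import Groth.Agent.Lib.Helper84.Stabilizer

/-!
# The stabilizer of `M ∩ ker π` in a subcomodule `M ⊆ A` (helper84)

`O` a commutative ring, `A` a flat commutative Hopf algebra over `O`, `π : A → B` a bialgebra map onto
a FLAT bialgebra `B`, `M ⊆ A` a subcomodule of the regular comodule, `W = M ∩ ker π`.
* `kills_of_stabP`: an `R`-point `g` of `A` stabilizing `W` kills `W`.
* `stabP_univ`: the universal point `π` stabilizes `W`  (uses flatness of `B`).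
* `stabP_of_kills`: for `π` surjective, every point killing `ker π` stabilizes `W`.
-/

set_option autoImplicit false
set_option linter.style.haveILetI false
set_option linter.unusedSectionVars false
open TensorProduct HopfRep
universe u v v' x

namespace Groth.Agent.Lib.Helper84.ChevDVR

open Groth.Agent.Lib.Helper84.Stabilizer

section Sub

variable {O : Type u} [CommRing O] {A : Type v} [CommRing A] [HopfAlgebra O A] [Module.Flat O A]
variable {B : Type v'} [CommRing B] [Bialgebra O B]
variable (π : A →ₐc[O] B)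
variable (M : Submodule O A) (hM : IsSubcomod (k := O) (A := A) M)
variable {R : Type x} [CommRing R] [Algebra O R]

/-- `q : M → B`, the restriction of `π`. -/
noncomputable def qmap : M →ₗ[O] B := (π : A →ₐ[O] B).toLinearMap ∘ₗ M.subtype

/-- `W = M ∩ ker π` as a submodule of `M`. -/
noncomputable def Wsub : Submodule O M := LinearMap.ker (qmap π M)

theorem mem_Wsub (w : M) : w ∈ Wsub π M ↔ π (w : A) = 0 := Iff.rfl

include hM in
theorem kills_of_stabP (g : A →ₐ[O] R)
    (hg : @StabP O _ A _ _ M _ _ (ComodSub.Comod.restr (Comod.regular O A) M hM) (Wsub π M) R _ _ g)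
    (w : M) (hw : w ∈ Wsub π M) : g (w : A) = 0 := by
  letI cV : Comod O A M := ComodSub.Comod.restr (Comod.regular O A) M hM
  set W := Wsub π M with hW
  let φ : M →ₗ[O] O := (CoalgebraStruct.counit (R := O) (A := A)) ∘ₗ M.subtype
  have h1 := lid_rTensor_lTensor (A := A) (V := M) φ g (cV.coact w)
  have h2 : TensorProduct.lid O A (φ.rTensor A (cV.coact w)) = (w : A) := by
    have : φ.rTensor A (cV.coact w) =
        (CoalgebraStruct.counit (R := O) (A := A)).rTensor A (M.subtype.rTensor A (cV.coact w)) := by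
      rw [← LinearMap.comp_apply ((CoalgebraStruct.counit (R := O) (A := A)).rTensor A),
        ← LinearMap.rTensor_comp]
    rw [this]
    have h2' : M.subtype.rTensor A (cV.coact w) = CoalgebraStruct.comul (R := O) (A := A) (w : A) :=
      ComodSub.rTensor_subtype_restrCoact (Comod.regular O A) M hM w
    rw [h2', Coalgebra.rTensor_counit_comul]
    simp
  rw [h2] at h1
  rw [← h1]
  obtain ⟨y, hy⟩ := hg w hw
  have hy' : g.toLinearMap.lTensor M (cV.coact w) = W.subtype.rTensor R y := hy.symm
  rw [hy', ← LinearMap.comp_apply, ← LinearMap.rTensor_comp]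
  have h0 : φ ∘ₗ W.subtype = 0 := by
    apply LinearMap.ext
    intro x
    have hx : π ((x : M) : A) = 0 := x.2
    simp only [φ, LinearMap.comp_apply, Submodule.subtype_apply, LinearMap.zero_apply]
    rw [← CoalgHomClass.counit_comp_apply π, hx, map_zero]
  rw [h0, LinearMap.rTensor_zero, LinearMap.zero_apply, map_zero]

include hM in
theorem stabP_univ [Module.Flat O B] :
    @StabP O _ A _ _ M _ _ (ComodSub.Comod.restr (Comod.regular O A) M hM) (Wsub π M) B _ _
      (π : A →ₐ[O] B) := by
  letI cV : Comod O A M := ComodSub.Comod.restr (Comod.regular O A) M hM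
  intro w hw
  set W := Wsub π M with hW
  let q : M →ₗ[O] B := qmap π M
  have hqker : LinearMap.ker q = W := rfl
  let j : M ⧸ W →ₗ[O] B := W.liftQ q (le_of_eq hqker.symm)
  have hj : Function.Injective j := by
    rw [← LinearMap.ker_eq_bot]
    exact Submodule.ker_liftQ_eq_bot _ _ _ (le_of_eq hqker)
  have hjq : j ∘ₗ W.mkQ = q := Submodule.liftQ_mkQ _ _ _
  have hjR : Function.Injective (j.rTensor B) :=
    Module.Flat.rTensor_preserves_injective_linearMap _ hj
  have hkey : TensorProduct.map q (π : A →ₐ[O] B).toLinearMap (cV.coact w) = 0 := by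
    have h1 : TensorProduct.map q (π : A →ₐ[O] B).toLinearMap =
        (TensorProduct.map (π : A →ₐ[O] B).toLinearMap (π : A →ₐ[O] B).toLinearMap) ∘ₗ
          (M.subtype.rTensor A) := by
      apply TensorProduct.ext'
      intro x a
      simp [q, qmap]
    rw [h1, LinearMap.comp_apply]
    have h2 : M.subtype.rTensor A (cV.coact w) = CoalgebraStruct.comul (R := O) (A := A) (w : A) :=
      ComodSub.rTensor_subtype_restrCoact (Comod.regular O A) M hM w
    rw [h2]
    have h3 := CoalgHomClass.map_comp_comul_apply π (w : A)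
    have hw0 : π (w : A) = 0 := hw
    rw [hw0, map_zero] at h3
    exact h3
  have hzero : (W.mkQ.rTensor B) ((π : A →ₐ[O] B).toLinearMap.lTensor M (cV.coact w)) = 0 := by
    apply hjR
    rw [map_zero, ← LinearMap.comp_apply, ← LinearMap.rTensor_comp, hjq, ← LinearMap.comp_apply,
      LinearMap.rTensor_comp_lTensor]
    exact hkey
  rw [← rTensor_mkQ, LinearMap.mem_ker]
  exact hzero

include hM in
theorem stabP_of_kills [Module.Flat O B] (hπ : Function.Surjective π) (g : A →ₐ[O] R)
    (hg : ∀ a : A, π a = 0 → g a = 0) :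
    @StabP O _ A _ _ M _ _ (ComodSub.Comod.restr (Comod.regular O A) M hM) (Wsub π M) R _ _ g := by
  letI cV : Comod O A M := ComodSub.Comod.restr (Comod.regular O A) M hM
  have H : RingHom.ker (π : A →ₐ[O] B).toRingHom ≤ RingHom.ker g.toRingHom := by
    intro a ha
    rw [RingHom.mem_ker] at ha ⊢
    exact hg a ha
  let gbar : B →ₐ[O] R := AlgHom.liftOfSurjective (π : A →ₐ[O] B) hπ g H
  have hgbar : gbar.comp (π : A →ₐ[O] B) = g := AlgHom.liftOfSurjective_comp _ hπ g H
  intro w hw
  obtain ⟨z, hz⟩ := stabP_univ π M hM w hw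
  refine ⟨gbar.toLinearMap.lTensor (Wsub π M) z, ?_⟩
  have h1 : g.toLinearMap.lTensor M = gbar.toLinearMap.lTensor M ∘ₗ
      (π : A →ₐ[O] B).toLinearMap.lTensor M := by
    rw [← LinearMap.lTensor_comp, ← hgbar]
    rfl
  rw [h1, LinearMap.comp_apply]
  have hz' : (π : A →ₐ[O] B).toLinearMap.lTensor M (cV.coact w) =
      (Wsub π M).subtype.rTensor B z := hz.symm
  rw [hz', ← LinearMap.comp_apply, ← LinearMap.comp_apply, LinearMap.rTensor_comp_lTensor,
    LinearMap.lTensor_comp_rTensor]

end Sub

end Groth.Agent.Lib.Helper84.ChevDVR
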