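import Mathlib
import Groth.Agent.Lib.Helper84.ChevDVR.ExtLineRing
import Groth.Agent.Lib.Helper84.ChevDVR.Stab
import Groth.Agent.Lib.Helper84.ChevDVR.Split
import Groth.Agent.Lib.Helper84.SmallestSubcomod
import Groth.Agent.Lib.Helper84.ProjComod

/-!
# Chevalley's theorem over a principal ideal domain (helper84)

`O` a PID, `A` a flat commutative Hopf algebra of finite type over `O`, `π : A → B` a surjective
bialgebra map onto a flat bialgebra.  There is a matrix corepresentation `(a_ij)` of `A` whose entries
generate `A` and such that `ker π` is generated by the `a_{i0}`, `i ≠ 0`: the closed subgroup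
`Spec B` is the stabilizer of the line `O e₀`.
-/

set_option autoImplicit false
set_option linter.style.haveILetI false
set_option linter.unusedSectionVars false
set_option maxHeartbeats 1000000
open TensorProduct HopfRep
universe u

namespace Groth.Agent.Lib.Helper84.ChevDVR

open Groth.Agent.Lib.Helper84.ExtComod Groth.Agent.Lib.Helper84.Stabilizer
open Groth.Agent.Lib.Helper84

theorem chevalley_pid {O : Type u} [CommRing O] [IsDomain O] [IsPrincipalIdealRing O]
    (A : Type u) [CommRing A] [HopfAlgebra O A] [Module.Flat O A] [Algebra.FiniteType O A]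
    (B : Type u) [CommRing B] [Bialgebra O B] [Module.Flat O B]
    (π : A →ₐc[O] B) (hπ : Function.Surjective π) :
    ∃ (d : ℕ) (hd : 0 < d) (a : Matrix (Fin d) (Fin d) A),
      (∀ i j, CoalgebraStruct.comul (R := O) (a i j) = ∑ l, a i l ⊗ₜ[O] a l j) ∧
      (∀ i j, CoalgebraStruct.counit (R := O) (a i j) = if i = j then 1 else 0) ∧
      (∃ u : A, u * a.det = 1 ∧
        Algebra.adjoin O (Set.range (fun p : Fin d × Fin d => a p.1 p.2) ∪ {u}) = ⊤) ∧
      RingHom.ker π = Ideal.span (Set.range (fun i : {i : Fin d // i ≠ ⟨0, hd⟩} => a i.1 ⟨0, hd⟩)) := by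
  classical
  haveI : IsNoetherianRing A := Algebra.FiniteType.isNoetherianRing O A
  obtain ⟨S, hS⟩ := (IsNoetherian.noetherian (RingHom.ker π) : (RingHom.ker π).FG)
  obtain ⟨T, hT⟩ := (Algebra.FiniteType.out : (⊤ : Subalgebra O A).FG)
  let M₀ : Submodule O A := Submodule.span O ((S ∪ T : Finset A) : Set A)
  obtain ⟨M, hM, hM₀M, hfg⟩ := SmallestSubcomod.exists_fg_subcomod_of_flat (C := A) (V := A) M₀
    (Submodule.fg_span (Finset.finite_toSet _))
  haveI : Module.Finite O M := Module.Finite.iff_fg.2 hfg
  letI cM : Comod O A M := ComodSub.Comod.restr (Comod.regular O A) M hM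
  have hSM : ∀ s ∈ S, s ∈ M := fun s hs =>
    hM₀M (Submodule.subset_span (by simp [hs]))
  have hTM : ∀ t ∈ T, t ∈ M := fun t ht =>
    hM₀M (Submodule.subset_span (by simp [ht]))
  -- the submodule `W = M ∩ ker π`
  set W := Wsub π M with hW
  let j : M ⧸ W →ₗ[O] B := W.liftQ (qmap π M) le_rfl
  have hj : Function.Injective j := by
    rw [← LinearMap.ker_eq_bot]
    exact Submodule.ker_liftQ_eq_bot _ _ _ le_rfl
  obtain ⟨r, wv, μ, hμ, hspan⟩ := exists_dual_family W j hj
  obtain ⟨n, eM⟩ : Σ n, Module.Basis (Fin n) O M := Module.basisOfFiniteTypeTorsionFree'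
  -- the exterior algebra
  letI cΛ : Comod O A (ExteriorAlgebra O M) := extComod cM
  obtain ⟨φ, hφ⟩ := exists_form_ιMulti wv μ hμ
  haveI : Module.Finite O (ExteriorAlgebra O M) := Module.Finite.of_basis eM.ExteriorAlgebra
  haveI : Module.Free O (ExteriorAlgebra O M) := Module.Free.of_basis eM.ExteriorAlgebra
  obtain ⟨m, e, he0⟩ := exists_basis_cons (omega (k := O) wv) φ hφ
  obtain ⟨a, ha, hΔ, hε⟩ := ProjComod.exists_matCoeff (C := A) e
  -- the key equivalence
  have key : ∀ (R : Type u) [CommRing R] [Algebra O R] (g : A →ₐ[O] R),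
      (∀ x : A, π x = 0 → g x = 0) ↔ ∀ i : Fin (m + 1), i ≠ 0 → g (a i 0) = 0 := by
    intro R _ _ g
    have h1 := stabP_iff_line (cV := cM) wv μ hμ eM g
    rw [hspan] at h1
    have h2 : (∃ c : R, g.toLinearMap.lTensor (ExteriorAlgebra O M)
        ((extComod cM).coact (omega (k := O) wv)) = omega (k := O) wv ⊗ₜ[O] c) ↔
        ∀ i : Fin (m + 1), i ≠ 0 → g (a i 0) = 0 := by
      have hcoact : g.toLinearMap.lTensor (ExteriorAlgebra O M)
          ((extComod cM).coact (omega (k := O) wv)) = ∑ i, e i ⊗ₜ[O] g (a i 0) := by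
        rw [← he0]
        have := ha 0
        rw [show (extComod cM).coact (e 0) = ∑ j, e j ⊗ₜ[O] a j 0 from this, map_sum]
        rfl
      rw [hcoact, ← he0]
      constructor
      · rintro ⟨c, hc⟩ i hi
        have h3 : e 0 ⊗ₜ[O] c = ∑ l, e l ⊗ₜ[O] (if l = 0 then c else 0) := by
          rw [Finset.sum_eq_single 0]
          · simp
          · intro l _ hl
            simp [hl]
          · intro h
            exact absurd (Finset.mem_univ _) h
        rw [h3] at hc
        have h4 := ProjComod.eq_of_sum_basis_tmul_eq e _ _ hc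
        have h5 := congrFun h4 i
        simpa [hi] using h5
      · intro h
        refine ⟨g (a 0 0), ?_⟩
        rw [Finset.sum_eq_single 0]
        · intro l _ hl
          rw [h l hl, TensorProduct.tmul_zero]
        · intro h
          exact absurd (Finset.mem_univ _) h
    rw [← h2, ← h1]
    constructor
    · intro hk
      exact stabP_of_kills π M hM hπ g hk
    · intro hst
      have hle : RingHom.ker π ≤ RingHom.ker (g : A →+* R) := by
        rw [← hS, Ideal.span_le]
        intro s hs
        have hsI : s ∈ RingHom.ker π := by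
          rw [← hS]
          exact Ideal.subset_span hs
        exact kills_of_stabP π M hM g hst ⟨s, hSM s hs⟩ hsI
      intro x hx
      exact hle hx
  refine ⟨m + 1, Nat.succ_pos m, Matrix.of a, hΔ, hε,
    ⟨_, ProjComod.det_unit (R := O) (Matrix.of a) hΔ hε, ?_⟩, ?_⟩
  · -- generation
    rw [eq_top_iff, ← hT]
    apply Algebra.adjoin_le
    intro t ht
    set Y := Algebra.adjoin O (Set.range (fun p : Fin (m + 1) × Fin (m + 1) => Matrix.of a p.1 p.2) ∪
      {(Matrix.map (Matrix.of a) (HopfAlgebra.antipode O (A := A))).det}) with hY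
    have haY : ∀ i l, a i l ∈ Y := fun i l =>
      Algebra.subset_adjoin (Or.inl ⟨(i, l), rfl⟩)
    let x : M := ⟨t, hTM t ht⟩
    let εM : M →ₗ[O] O := (CoalgebraStruct.counit (R := O) (A := A)) ∘ₗ M.subtype
    let θ : ExteriorAlgebra O M →ₗ[O] O := εM ∘ₗ ExteriorAlgebra.ιInv
    have hθι : θ ∘ₗ ExteriorAlgebra.ι O = εM := by
      apply LinearMap.ext
      intro y
      simp only [θ, LinearMap.comp_apply]
      rw [ExteriorAlgebra.ι_leftInverse y]
    -- `x = (ε ⊗ id) ρ x`
    have hx1 : TensorProduct.lid O A (εM.rTensor A (cM.coact x)) = (x : A) := by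
      have : εM.rTensor A (cM.coact x) =
          (CoalgebraStruct.counit (R := O) (A := A)).rTensor A
            (M.subtype.rTensor A (cM.coact x)) := by
        rw [← LinearMap.comp_apply ((CoalgebraStruct.counit (R := O) (A := A)).rTensor A),
          ← LinearMap.rTensor_comp]
      rw [this]
      have h2' : M.subtype.rTensor A (cM.coact x) =
          CoalgebraStruct.comul (R := O) (A := A) (x : A) :=
        ComodSub.rTensor_subtype_restrCoact (Comod.regular O A) M hM x
      rw [h2', Coalgebra.rTensor_counit_comul]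
      simp
    have hx2 : θ.rTensor A (cΛ.coact (ExteriorAlgebra.ι O x)) = εM.rTensor A (cM.coact x) := by
      have h3 : cΛ.coact (ExteriorAlgebra.ι O x) = iotaR A (cM.coact x) := coactAlg_ι cM x
      rw [h3]
      have h4 : ∀ t : M ⊗[O] A, θ.rTensor A (iotaR A t) = εM.rTensor A t := by
        intro t
        induction t using TensorProduct.induction_on with
        | zero => simp
        | tmul y b =>
          rw [iotaR_tmul, LinearMap.rTensor_tmul, LinearMap.rTensor_tmul]
          congr 1
          exact LinearMap.congr_fun hθι y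
        | add p q hp hq => rw [map_add, map_add, map_add, hp, hq]
      exact h4 _
    have hx3 : cΛ.coact (ExteriorAlgebra.ι O x) =
        ∑ l, e.repr (ExteriorAlgebra.ι O x) l • ∑ i, e i ⊗ₜ[O] a i l := by
      conv_lhs => rw [← e.sum_repr (ExteriorAlgebra.ι O x)]
      rw [map_sum]
      apply Finset.sum_congr rfl
      intro l _
      rw [map_smul]
      congr 1
      exact ha l
    have hxY : (x : A) ∈ Y := by
      rw [← hx1, ← hx2, hx3, map_sum, map_sum]
      refine Subalgebra.sum_mem _ fun l _ => ?_
      rw [map_smul, map_smul, map_sum, map_sum]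
      refine Subalgebra.smul_mem _ ?_ _
      refine Subalgebra.sum_mem _ fun i _ => ?_
      rw [LinearMap.rTensor_tmul, TensorProduct.lid_tmul]
      exact Subalgebra.smul_mem _ (haY i l) _
    exact hxY
  · -- the ideal
    apply le_antisymm
    · set J := Ideal.span (Set.range (fun i : {i : Fin (m + 1) // i ≠ ⟨0, Nat.succ_pos m⟩} =>
        Matrix.of a i.1 ⟨0, Nat.succ_pos m⟩)) with hJ
      have h1 := (key (A ⧸ J) (Ideal.Quotient.mkₐ O J)).2 (by
        intro i hi
        rw [Ideal.Quotient.mkₐ_eq_mk, Ideal.Quotient.eq_zero_iff_mem]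
        exact Ideal.subset_span ⟨⟨i, hi⟩, rfl⟩)
      intro x hx
      have := h1 x hx
      rwa [Ideal.Quotient.mkₐ_eq_mk, Ideal.Quotient.eq_zero_iff_mem] at this
    · rw [Ideal.span_le]
      rintro _ ⟨⟨i, hi⟩, rfl⟩
      have h1 := (key B (π : A →ₐ[O] B)).1 (fun x hx => hx) i hi
      exact h1

end Groth.Agent.Lib.Helper84.ChevDVR
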